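import Groth.Agent.Lib.Snapper.Growth
import Groth.Agent.Lib.Semiample.Criterion

/-!
# The growth of higher cohomology of powers of a globally generated invertible module
-/

set_option autoImplicit false
set_option linter.style.haveILetI false

universe u

open CategoryTheory CategoryTheory.Limits AlgebraicGeometry TopologicalSpace

noncomputable section

namespace GrothLib.GGGrowth9

open GrothLib GrothLib.Snapper
open GrothLib.Euler (tF)
open GrothLib.QCoh (stalkLin)

variable {X : Scheme.{u}} {k : Type u} [Field k] [X.Over (Spec (CommRingCat.of k))]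
  [IsProper (X ↘ Spec (CommRingCat.of k))]

omit [IsProper (X ↘ Spec (CommRingCat.of k))] [X.Over (Spec (CommRingCat.of k))] in
theorem exists_section [CompactSpace X] {L : X.Modules} (hL : PicF.IsInvertible L)
    (hgen : Curv2.IsGloballyGenerated L) (x : X) :
    ∃ (m : ℕ) (s : Coh.structureModule X ⟶ CohB1.tensorPow L (m + 1)), x ∈ CohB1.genLocus _ s := by
  obtain ⟨c, ⟨e⟩⟩ := Ample.exists_cocycle hL
  obtain ⟨n, a, ha⟩ := Semiample.exists_sections c (Ample.isGloballyGenerated_of_iso e hgen)
  obtain ⟨i, hi⟩ := Opens.mem_iSup.1 (show x ∈ ⨆ i, c.locus (a i) by rw [ha]; trivial)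
  let d : c.twist 1 ≅ CohB1.tensorPow L 1 := e.symm ≪≫ (OX.tensorUnitLeftIso L).symm
  refine ⟨0, c.hom (a i) ≫ d.hom, ?_⟩
  rw [Ample.genLocus_comp_iso d, c.genLocus_hom]
  exact hi

variable (k) in
include k in
/-- The higher cohomology of the twists of a coherent module with `d`-dimensional support is `O(n^{d-1})`. -/
theorem growth_hpos_gg {L : X.Modules} (hL : PicF.IsInvertible L) (hgen : Curv2.IsGloballyGenerated L) : ∀ (d : ℕ) (F : X.Modules), Coh.IsCoh F →
    DimLT (CohB1.support F) (d + 1) → Growth k L F (d - 1) := by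
  haveI := Euler.isNoetherian_of_proper (X := X) k
  intro d
  induction d with
  | zero =>
    intro F hF hd
    exact ⟨0, fun n => le_of_eq ((hpos_eq_zero_of_dimLT_one k (isCoh_twist k hL hF n)
      (hd.mono (support_twist_subset hL n))).trans (by simp))⟩
  | succ d ih =>
    intro F hF hd
    refine QCoh.coh_induction (fun M => Growth k L M (d + 1 - 1)) ?_ ?_ ?_ F hF ?_
    · rintro M N ⟨e⟩ ⟨C, hC⟩
      exact ⟨C, fun n => (hpos_of_iso k ((tF _).mapIso e)).symm.le.trans (hC n)⟩
    · intro M hM
      refine ⟨0, fun n => le_of_eq ((finsum_eq_zero_of_forall_eq_zero fun i => ?_).trans (zero_mul _).symm)⟩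
      haveI := Cohom.subsingleton_HH_of_isZero ((tF (CohB1.tensorPow L n)).map_isZero hM) (i + 1)
      exact Module.finrank_zero_of_subsingleton
    · rintro S hS a b c ⟨C₁, h₁⟩ ⟨C₃, h₃⟩
      refine ⟨C₁ + C₃, fun n => ?_⟩
      refine (hpos_X₂_le k (shortExact_twist hL n hS) (isCoh_twist k hL a n) (isCoh_twist k hL b n)
        (isCoh_twist k hL c n)).trans ?_
      rw [Nat.add_mul]
      exact Nat.add_le_add (h₁ n) (h₃ n)
    · intro Z i hi hZ N ι hι hN hN0 hsub
      let P := (Coh.push i).obj N
      have hP : Coh.IsCoh P := by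
        haveI := hN.1
        haveI : IsLocallyNoetherian Z := LocallyOfFiniteType.isLocallyNoetherian i
        exact ⟨QCoh.isQuasicoherent_pushforward i N, QCoh.isFiniteType_pushforward i N hN.2⟩
      have hPd : DimLT (CohB1.support P) (d + 1 + 1) := hd.mono hsub
      by_cases hsmall : DimLT (CohB1.support P) (d + 1)
      · exact growth_mono (by omega) (ih P hP hsmall)
      let η := i (genericPoint Z)
      have hcl : closure ({η} : Set X) = Set.range i := QCoh.closure_singleton_eq_range i
      have hPr : CohB1.support P ⊆ closure {η} := hcl ▸ QCoh.support_pushforward_subset_range i N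
      have hη : DimLT (closure ({η} : Set X)) (d + 1 + 1) := hPd.mono ((QCoh.isClosed_support_of_isCoh hP).closure_subset_iff.2
        (Set.singleton_subset_iff.2 (QCoh.genericPoint_mem_support_push i N ι hN0)))
      obtain ⟨m, s, hηs⟩ := exists_section hL hgen η
      let M := CohB1.tensorPow L (m + 1)
      have hM : PicF.IsInvertible M := Ample.isInvertible_tensorPow hL _
      let μ : P ⟶ (tF M).obj P :=
        (Euler.tFUnitIso P).inv ≫ ((DCoh.tensorBi (X := X)).obj P).map s
      have hM' : Coh.IsCoh ((tF M).obj P) := Euler.isCoh_tF hP (Euler.isFinLocFree_of_isInvertible hM)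
      have hbij : ∀ x ∈ CohB1.genLocus M s, Function.Bijective (stalkLin μ x) := by
        intro x hx
        obtain ⟨U, hU, hxU⟩ := Opens.mem_sSup.1 hx
        suffices h : ∀ U : X.Opens, IsIso ((Scheme.Modules.restrictFunctor U.ι).map s) → x ∈ U →
            Function.Bijective (stalkLin μ x) from h U hU hxU
        intro U hU hxU
        haveI : IsIso ((Scheme.Modules.pullback U.ι).map s) :=
          (NatIso.isIso_map_iff (Scheme.Modules.restrictFunctorIsoPullback U.ι) s).1 hU
        haveI : IsIso ((Scheme.Modules.pullback U.ι).map (((DCoh.tensorBi (X := X)).obj P).map s)) := by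
          have h : (Scheme.Modules.pullback U.ι).map (((DCoh.tensorBi (X := X)).obj P).map s) ≫
              (OX.pullTensorIso U.ι P M).hom = (OX.pullTensorIso U.ι P _).hom ≫
              ((DCoh.tensorBi (X := U.toScheme)).obj _).map ((Scheme.Modules.pullback U.ι).map s) :=
            OX.pullTensorIso_natural₂ U.ι P s
          rw [← isIso_comp_right_iff _ (OX.pullTensorIso U.ι P M).hom, h]
          infer_instance
        haveI : IsIso ((Scheme.Modules.restrictFunctor U.ι).map μ) := by
          rw [NatIso.isIso_map_iff (Scheme.Modules.restrictFunctorIsoPullback U.ι), Functor.map_comp]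
          infer_instance
        exact stalk_bijective_of_isIso_restrict μ U hxU
      let T : Set X := closure {η} ∩ (CohB1.genLocus M s : Set X)ᶜ
      have hT : DimLT T (d + 1) := dimLT_of_notMem hη Set.inter_subset_left fun h => h.2 hηs
      have hPM : CohB1.support ((tF M).obj P) ⊆ closure {η} :=
        (Euler.support_tF_subset (Euler.isFinLocFreeOfRank_one' hM)).trans hPr
      let I := Abelian.image μ
      have hK := QCoh.isCoh_kernel μ hP hM'
      have hQ := QCoh.isCoh_cokernel μ hP hM'
      have hI : Coh.IsCoh I := QCoh.isCoh_kernel _ hM' hQ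
      obtain ⟨CK, hCK⟩ := ih (kernel μ) hK (hT.mono fun x hx => ⟨hPr (QCoh.support_subset_of_mono (kernel.ι μ) hx),
        fun hxs => QCoh.notMem_support_kernel_of_injective μ (hbij x hxs).1 hx⟩)
      obtain ⟨CQ, hCQ⟩ := ih (cokernel μ) hQ (hT.mono fun x hx => ⟨hPM (QCoh.support_subset_of_epi (cokernel.π μ) hx),
        fun hxs => QCoh.notMem_support_cokernel_of_surjective μ (hbij x hxs).2 hx⟩)
      have hstep : ∀ n, hpos k ((tF (CohB1.tensorPow L (n + (m + 1)))).obj P) ≤
          hpos k ((tF (CohB1.tensorPow L n)).obj P) + (CK + CQ) * (n + 1) ^ (d - 1) := by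
        intro n
        obtain ⟨e⟩ := nonempty_tensorPow_add L (m + 1) n
        have e1 : (tF (CohB1.tensorPow L (n + (m + 1)))).obj P ≅
            (tF (CohB1.tensorPow L n)).obj ((tF M).obj P) :=
          ((DCoh.tensorBi (X := X)).obj P).mapIso ((eqToIso (by rw [add_comm])) ≪≫ e) ≪≫
            (OX.tensorAssoc P M (CohB1.tensorPow L n)).symm
        rw [hpos_of_iso k e1]
        have hT2 := hpos_X₂_le k (shortExact_twist hL n (Euler.imageSeq_shortExact μ)) (isCoh_twist k hL hI n)
          (isCoh_twist k hL hM' n) (isCoh_twist k hL hQ n)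
        have hT1 := hpos_X₃_le k (shortExact_twist hL n (Euler.kernelSeq_shortExact μ)) (isCoh_twist k hL hK n)
          (isCoh_twist k hL hP n) (isCoh_twist k hL hI n)
        simp only [ShortComplex.map_X₁, ShortComplex.map_X₂, ShortComplex.map_X₃] at hT1 hT2
        have := hCK n
        have := hCQ n
        rw [Nat.add_mul]
        omega
      cases d with
      | zero =>
        have hz : ∀ G : X.Modules, Coh.IsCoh G → DimLT (CohB1.support G) 1 → ∀ n,
            hpos k ((tF (CohB1.tensorPow L n)).obj G) = 0 := fun G hG hGd n =>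
          hpos_eq_zero_of_dimLT_one k (isCoh_twist k hL hG n) (hGd.mono (support_twist_subset hL n))
        have hstep' : ∀ n, hpos k ((tF (CohB1.tensorPow L (n + (m + 1)))).obj P) ≤
            hpos k ((tF (CohB1.tensorPow L n)).obj P) := fun n => by
          obtain ⟨e⟩ := nonempty_tensorPow_add L (m + 1) n
          have e1 : (tF (CohB1.tensorPow L (n + (m + 1)))).obj P ≅
              (tF (CohB1.tensorPow L n)).obj ((tF M).obj P) :=
            ((DCoh.tensorBi (X := X)).obj P).mapIso ((eqToIso (by rw [add_comm])) ≪≫ e) ≪≫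
              (OX.tensorAssoc P M (CohB1.tensorPow L n)).symm
          rw [hpos_of_iso k e1]
          have hT2 := hpos_X₂_le k (shortExact_twist hL n (Euler.imageSeq_shortExact μ)) (isCoh_twist k hL hI n)
            (isCoh_twist k hL hM' n) (isCoh_twist k hL hQ n)
          have hT1 := hpos_X₃_le k (shortExact_twist hL n (Euler.kernelSeq_shortExact μ)) (isCoh_twist k hL hK n)
            (isCoh_twist k hL hP n) (isCoh_twist k hL hI n)
          simp only [ShortComplex.map_X₁, ShortComplex.map_X₂, ShortComplex.map_X₃] at hT1 hT2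
          have := hz (kernel μ) hK (hT.mono fun x hx => ⟨hPr (QCoh.support_subset_of_mono (kernel.ι μ) hx),
            fun hxs => QCoh.notMem_support_kernel_of_injective μ (hbij x hxs).1 hx⟩) n
          have := hz (cokernel μ) hQ (hT.mono fun x hx => ⟨hPM (QCoh.support_subset_of_epi (cokernel.π μ) hx),
            fun hxs => QCoh.notMem_support_cokernel_of_surjective μ (hbij x hxs).2 hx⟩) n
          omega
        obtain ⟨A, hA'⟩ := le_of_step_zero (h := fun n => hpos k ((tF (CohB1.tensorPow L n)).obj P))
          m.succ_pos hstep'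
        exact ⟨A, fun n => by simpa using hA' n⟩
      | succ e =>
        exact le_of_step (h := fun n => hpos k ((tF (CohB1.tensorPow L n)).obj P)) m.succ_pos hstep

end GrothLib.GGGrowth9
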